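import Groth.Agent.EtGmUFD.Affine
import Groth.Agent.EtaleSite.Covers
import Groth.Agent.EtColim.CohColim
import Groth.Agent.GLDescent.Algebra
import Groth.Prelude.Def_EtZar
import Groth.Prelude.Def_EtShriek2

/-!
# Hilbert 90, Zariski locally

Sections of the quotient `I / G_m` lift Zariski locally to the injective sheaf `I`.
-/

set_option autoImplicit false
set_option backward.isDefEq.respectTransparency false
set_option backward.isDefEq.respectTransparency.types false

universe u

open CategoryTheory CategoryTheory.Limits AlgebraicGeometry Opposite TensorProduct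

noncomputable section

namespace Groth.Agent.EtPicard

open EtGmUFD (XA obj objHom funR valR map_funR funR_valR valR_funR)
open EtShriek (compEtale)

variable (X : Scheme.{u})

/-- The embedding of `G_m` in an injective. -/
def seq : ShortComplex (EtCoh.Ab X) :=
  ShortComplex.mk (Injective.ι (EtCoh.Gm X)) (cokernel.π _) (cokernel.condition _)

theorem seq_shortExact : (seq X).ShortExact :=
  haveI : Mono (seq X).f := inferInstanceAs (Mono (Injective.ι (EtCoh.Gm X)))
  haveI : Epi (seq X).g := coequalizer.π_epi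
  { exact := ShortComplex.exact_cokernel _ }

instance : Injective (seq X).X₂ := inferInstanceAs (Injective (Injective.under _))

variable {X}

/-- Restriction of sections on the étale site. -/
abbrev er (F : EtCoh.Ab X) {V W : X.Etale} (g : W ⟶ V) : F.obj.obj (op V) →+ F.obj.obj (op W) :=
  (F.obj.map g.op).hom

theorem er_er (F : EtCoh.Ab X) {T U V : X.Etale} (a : T ⟶ U) (b : U ⟶ V) {c : T ⟶ V} (h : a ≫ b = c)
    (s : F.obj.obj (op V)) : er F a (er F b s) = er F c s := by
  subst h
  exact (ConcreteCategory.congr_hom (F.obj.map_comp b.op a.op) s).symm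

theorem er_app {F G : EtCoh.Ab X} (φ : F ⟶ G) {V W : X.Etale} (g : W ⟶ V) (s : F.obj.obj (op V)) :
    (φ.hom.app (op W)).hom (er F g s) = er G g ((φ.hom.app (op V)).hom s) :=
  ConcreteCategory.congr_hom (φ.hom.naturality g.op) s

/-- The value of a section of `G_m`. -/
def uval {V : X.Etale} (s : (EtCoh.Gm X).obj.obj (op V)) : Γ(V.left, ⊤) :=
  (((show ULift.{u + 1} (Additive (Γ(V.left, ⊤) : Type u)ˣ) from s).down.toMul :
    (Γ(V.left, ⊤) : Type u)ˣ) : Γ(V.left, ⊤))

/-- A unit as a section of `G_m`. -/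
def ofUnit {V : X.Etale} (w : (Γ(V.left, ⊤) : Type u)ˣ) : (EtCoh.Gm X).obj.obj (op V) :=
  show ULift.{u + 1} (Additive (Γ(V.left, ⊤) : Type u)ˣ) from ULift.up (Additive.ofMul w)

theorem uval_ofUnit {V : X.Etale} (w : (Γ(V.left, ⊤) : Type u)ˣ) : uval (ofUnit (X := X) w) = w := rfl

theorem uval_add {V : X.Etale} (s t : (EtCoh.Gm X).obj.obj (op V)) : uval (s + t) = uval s * uval t := rfl

theorem uval_map {V W : X.Etale} (g : W ⟶ V) (s : (EtCoh.Gm X).obj.obj (op V)) :
    uval (er (EtCoh.Gm X) g s) = g.left.appTop (uval s) := rfl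

theorem uval_inj {V : X.Etale} {s t : (EtCoh.Gm X).obj.obj (op V)} (h : uval s = uval t) : s = t :=
  ULift.down_injective (Additive.toMul.injective (Units.ext h))

theorem isUnit_uval {V : X.Etale} (s : (EtCoh.Gm X).obj.obj (op V)) : IsUnit (uval s) := Units.isUnit _

section Affine

variable {A : Type u} [CommRing A] (j : XA A ⟶ X) [Etale j]

/-- An étale algebra over an affine piece, as an étale scheme over `X`. -/
abbrev cE (C : Type u) [CommRing C] [Algebra A C] [Algebra.Etale A C] : X.Etale := (compEtale j).obj (obj A C)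

/-- An algebra map as a morphism over `X`. -/
abbrev cH {C D : Type u} [CommRing C] [Algebra A C] [Algebra.Etale A C] [CommRing D] [Algebra A D]
    [Algebra.Etale A D] (e : C →ₐ[A] D) : cE j D ⟶ cE j C := (compEtale j).map (objHom e)

theorem cH_comp {C D E : Type u} [CommRing C] [Algebra A C] [Algebra.Etale A C] [CommRing D] [Algebra A D]
    [Algebra.Etale A D] [CommRing E] [Algebra A E] [Algebra.Etale A E] (e : C →ₐ[A] D) (e' : D →ₐ[A] E) :
    cH j e' ≫ cH j e = cH j (e'.comp e) := by
  refine MorphismProperty.Over.Hom.ext ?_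
  show Spec.map _ ≫ Spec.map _ = Spec.map _
  rw [← Spec.map_comp]
  rfl

/-- A section of `G_m` on an affine piece as an element of the algebra. -/
def gval {C : Type u} [CommRing C] [Algebra A C] [Algebra.Etale A C]
    (s : (EtCoh.Gm X).obj.obj (op (cE j C))) : C := valR (A := A) (uval s)

theorem gval_add {C : Type u} [CommRing C] [Algebra A C] [Algebra.Etale A C]
    (s t : (EtCoh.Gm X).obj.obj (op (cE j C))) : gval j (s + t) = gval j s * gval j t :=
  (congrArg (valR (A := A)) (uval_add s t)).trans (map_mul _ _ _)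

theorem isUnit_gval {C : Type u} [CommRing C] [Algebra A C] [Algebra.Etale A C]
    (s : (EtCoh.Gm X).obj.obj (op (cE j C))) : IsUnit (gval j s) :=
  (isUnit_uval s).map (Scheme.ΓSpecIso (CommRingCat.of C)).hom.hom

theorem funR_gval {C : Type u} [CommRing C] [Algebra A C] [Algebra.Etale A C]
    (s : (EtCoh.Gm X).obj.obj (op (cE j C))) : funR A C (gval j s) = uval s :=
  funR_valR (A := A) (R := C) (uval s)

theorem gval_map {C D : Type u} [CommRing C] [Algebra A C] [Algebra.Etale A C] [CommRing D] [Algebra A D]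
    [Algebra.Etale A D] (e : C →ₐ[A] D) (s : (EtCoh.Gm X).obj.obj (op (cE j C))) :
    gval j (er (EtCoh.Gm X) (cH j e) s) = e (gval j s) :=
  (congrArg (fun z => valR (A := A) ((objHom e).left.appTop z)) (funR_gval j s).symm).trans
    ((congrArg (valR (A := A)) (map_funR e _)).trans (valR_funR _))

open GLDescent in
/-- Zariski local lifts over an affine piece with a faithfully flat étale neighbourhood. -/
theorem exists_lift_away (σ : (seq X).X₃.obj.obj (op (EtCoh.top X))) (C : Type u) [CommRing C] [Algebra A C]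
    [Algebra.Etale A C] [Module.FaithfullyFlat A C] (t : (seq X).X₂.obj.obj (op (cE j C)))
    (ht : ((seq X).g.hom.app (op (cE j C))).hom t =
      er (seq X).X₃ ((EtCore.topIsTerminal X).from (cE j C)) σ) (p : PrimeSpectrum A) :
    ∃ a : A, a ∉ p.asIdeal ∧
      ∃ t' : (seq X).X₂.obj.obj (op (cE j (Localization.Away a))),
        ((seq X).g.hom.app (op (cE j (Localization.Away a)))).hom t' =
          er (seq X).X₃ ((EtCore.topIsTerminal X).from (cE j (Localization.Away a))) σ := by
  haveI : Algebra.Etale A (C ⊗[A] C) := Algebra.Etale.comp A C _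
  haveI : Algebra.Etale A (C ⊗[A] (C ⊗[A] C)) := Algebra.Etale.comp A C _
  have hS := seq_shortExact X
  have hgfrom : ∀ {V W : X.Etale} (g : W ⟶ V),
      er (seq X).X₃ g (er (seq X).X₃ ((EtCore.topIsTerminal X).from V) σ) =
        er (seq X).X₃ ((EtCore.topIsTerminal X).from W) σ := fun g =>
    er_er _ _ _ ((EtCore.topIsTerminal X).hom_ext _ _) σ
  -- the transition unit
  obtain ⟨r, hr⟩ : ∃ r, ((seq X).f.hom.app (op (cE j (C ⊗[A] C)))).hom r =
      er (seq X).X₂ (cH j (i₁ A C)) t - er (seq X).X₂ (cH j (i₂ A C)) t := by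
    refine EtColim.CohColim.exact_app hS _ _ ?_
    rw [map_sub, er_app, er_app, ht, hgfrom, hgfrom, sub_self]
  let rv : C ⊗[A] C := gval j r
  let R : Matrix (Fin 1) (Fin 1) (C ⊗[A] C) := Matrix.of fun _ _ => rv
  have hcoc : IsCocycle R := by
    refine ⟨?_, ?_⟩
    · have hadd : er (EtCoh.Gm X) (cH j (pr (j₀ A C) (j₁ A C))) r + er (EtCoh.Gm X) (cH j (pr (j₁ A C) (j₂ A C))) r =
          er (EtCoh.Gm X) (cH j (pr (j₀ A C) (j₂ A C))) r := by
        refine EtColim.CohColim.injective_app hS _ ?_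
        have key : ∀ f g : C →ₐ[A] C ⊗[A] (C ⊗[A] C),
            ((seq X).f.hom.app (op (cE j (C ⊗[A] (C ⊗[A] C))))).hom (er (EtCoh.Gm X) (cH j (pr f g)) r) =
              er (seq X).X₂ (cH j f) t - er (seq X).X₂ (cH j g) t := fun f g => by
          refine (er_app (seq X).f _ r).trans ?_
          rw [hr, map_sub, er_er (seq X).X₂ _ _ (cH_comp j _ _), er_er (seq X).X₂ _ _ (cH_comp j _ _)]
          have h1 : (pr f g).comp (i₁ A C) = f := AlgHom.ext fun c => by simp
          have h2 : (pr f g).comp (i₂ A C) = g := AlgHom.ext fun c => by simp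
          rw [h1, h2]
        exact (map_add _ _ _).trans ((congrArg₂ (· + ·) (key _ _) (key _ _)).trans
          ((sub_add_sub_cancel _ _ _).trans (key _ _).symm))
      have h := congrArg (gval j) hadd
      rw [gval_add, gval_map, gval_map, gval_map] at h
      ext a b
      simpa [R, Matrix.mul_apply] using h
    · rw [Matrix.det_fin_one]
      exact isUnit_gval j r
  obtain ⟨a, Φ, hap, hΦ, hunit⟩ := hcoc.exists_frame p
  refine ⟨a, hap, ?_⟩
  let Aa := Localization.Away a
  let C' := Aa ⊗[A] C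
  haveI : Algebra.Etale A C' := Algebra.Etale.comp A Aa _
  let e : C →ₐ[A] C' := Algebra.TensorProduct.includeRight
  let e' : Aa →ₐ[A] C' := Algebra.TensorProduct.includeLeft
  let φ : C := Φ 0 0
  have hφu : IsUnit (funR A C' (e φ)) := by
    refine IsUnit.map (funR A C') ?_
    have h := hunit C' e.toRingHom (by
      show IsUnit (e (algebraMap A C a))
      rw [e.commutes, ← e'.commutes]
      exact (IsLocalization.Away.algebraMap_isUnit a).map e')
    rwa [Matrix.det_fin_one] at h
  have hrel : φ ⊗ₜ[A] (1 : C) = rv * ((1 : C) ⊗ₜ[A] φ) := by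
    have h := congrFun (congrFun hΦ 0) 0
    simpa [R, Matrix.mul_apply] using h
  let w : (EtCoh.Gm X).obj.obj (op (cE j C')) := ofUnit (X := X) (V := cE j C') hφu.unit
  let s := er (seq X).X₂ (cH j e) t - ((seq X).f.hom.app (op (cE j C'))).hom w
  have hsurj : Function.Surjective (cH j e').left.base :=
    PrimeSpectrum.comap_surjective_of_faithfullyFlat (A := Aa) (B := C')
  have hcov := EtaleSite.Covers.singleton_mem (cH j e') hsurj
  have hF : Presieve.IsSheaf _ ((seq X).X₂.obj ⋙ forget AddCommGrpCat.{u + 1}) :=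
    (isSheaf_iff_isSheaf_of_type _ _).1 (((sheafCompose X.smallEtaleTopology
      (forget AddCommGrpCat.{u + 1})).obj (seq X).X₂).property)
  have hsheaf := (Presieve.isSheafFor_iff_generate _).2 (hF _ hcov)
  rw [Presieve.isSheafFor_singleton] at hsheaf
  obtain ⟨t', ht', -⟩ := hsheaf s fun {Z} ga gb hab => by
    let a₁ := ga ≫ cH j e
    let b₁ := gb ≫ cH j e
    have hbase : a₁.left ≫ Spec.map (CommRingCat.ofHom (algebraMap A C)) =
        b₁.left ≫ Spec.map (CommRingCat.ofHom (algebraMap A C)) := by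
      have h1 : Spec.map (CommRingCat.ofHom e.toRingHom) ≫ Spec.map (CommRingCat.ofHom (algebraMap A C)) =
          Spec.map (CommRingCat.ofHom e'.toRingHom) ≫ Spec.map (CommRingCat.ofHom (algebraMap A Aa)) := by
        rw [← Spec.map_comp, ← Spec.map_comp, ← CommRingCat.ofHom_comp, ← CommRingCat.ofHom_comp]
        exact congrArg (fun k => Spec.map (CommRingCat.ofHom k)) (e.comp_algebraMap.trans e'.comp_algebraMap.symm)
      show (ga.left ≫ _) ≫ _ = (gb.left ≫ _) ≫ _
      rw [Category.assoc, Category.assoc]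
      refine (congrArg (ga.left ≫ ·) h1).trans (Eq.trans ?_ (congrArg (gb.left ≫ ·) h1).symm)
      rw [← Category.assoc, ← Category.assoc]
      exact congrArg (fun k : Z ⟶ cE j Aa => k.left ≫ _) hab
    let l : Z ⟶ cE j (C ⊗[A] C) := MorphismProperty.Over.homMk
      (pullback.lift a₁.left b₁.left hbase ≫ (pullbackSpecIso A C C).hom) (by
        refine Eq.trans ?_ (MorphismProperty.Over.w a₁)
        show (_ ≫ _) ≫ Spec.map _ ≫ j = a₁.left ≫ Spec.map _ ≫ j
        have e0 : Spec.map (CommRingCat.ofHom (algebraMap A (C ⊗[A] C))) =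
            Spec.map (CommRingCat.ofHom (Algebra.TensorProduct.includeLeftRingHom : C →+* C ⊗[A] C)) ≫
              Spec.map (CommRingCat.ofHom (algebraMap A C)) := by
          rw [← Spec.map_comp]
          rfl
        rw [e0]
        simp only [Category.assoc]
        erw [pullbackSpecIso_hom_fst_assoc, pullback.lift_fst_assoc])
    have hl₁ : l ≫ cH j (i₁ A C) = a₁ := MorphismProperty.Over.Hom.ext (by
      show (_ ≫ _) ≫ Spec.map _ = a₁.left
      rw [Category.assoc]
      exact (congrArg (_ ≫ ·) (pullbackSpecIso_hom_fst A C C)).trans (pullback.lift_fst _ _ _))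
    have hl₂ : l ≫ cH j (i₂ A C) = b₁ := MorphismProperty.Over.Hom.ext (by
      show (_ ≫ _) ≫ Spec.map _ = b₁.left
      rw [Category.assoc]
      exact (congrArg (_ ≫ ·) (pullbackSpecIso_hom_snd A C C)).trans (pullback.lift_snd _ _ _))
    have hw : er (EtCoh.Gm X) ga w = er (EtCoh.Gm X) l r + er (EtCoh.Gm X) gb w := by
      apply uval_inj
      rw [uval_add, uval_map, uval_map, uval_map, uval_ofUnit, IsUnit.unit_spec]
      have ha : (ga.left).appTop (funR A C' (e φ)) = l.left.appTop (funR A (C ⊗[A] C) (φ ⊗ₜ[A] (1 : C))) := by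
        rw [← map_funR e φ, ← show (objHom (i₁ A C)).left.appTop (funR A C φ) = funR A (C ⊗[A] C) (φ ⊗ₜ[A] (1 : C))
          from map_funR (i₁ A C) φ]
        exact congrArg (fun k : Z ⟶ cE j C => k.left.appTop (funR A C φ)) hl₁.symm
      have hb : (gb.left).appTop (funR A C' (e φ)) = l.left.appTop (funR A (C ⊗[A] C) ((1 : C) ⊗ₜ[A] φ)) := by
        rw [← map_funR e φ, ← show (objHom (i₂ A C)).left.appTop (funR A C φ) = funR A (C ⊗[A] C) ((1 : C) ⊗ₜ[A] φ)
          from map_funR (i₂ A C) φ]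
        exact congrArg (fun k : Z ⟶ cE j C => k.left.appTop (funR A C φ)) hl₂.symm
      erw [ha, hb, hrel, map_mul, map_mul, funR_gval]
    show er (seq X).X₂ ga s = er (seq X).X₂ gb s
    simp only [s, map_sub]
    rw [← er_app, ← er_app, show ((seq X).f.hom.app (op Z)).hom (er (seq X).X₁ ga w) =
      ((seq X).f.hom.app (op Z)).hom (er (seq X).X₁ l r) + ((seq X).f.hom.app (op Z)).hom (er (seq X).X₁ gb w)
      from (congrArg _ hw).trans (map_add _ _ _), er_app (seq X).f l r, hr, map_sub, er_er (seq X).X₂ _ _ hl₁,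
      er_er (seq X).X₂ _ _ hl₂, er_er (seq X).X₂ ga (cH j e) rfl t, er_er (seq X).X₂ gb (cH j e) rfl t]
    abel
  refine ⟨t', (seq X).X₃.property.isSeparated _ _ hcov _ _ ?_⟩
  rintro Z _ ⟨W, c, _, ⟨⟩, rfl⟩
  have h1 : ((seq X).g.hom.app (op (cE j C'))).hom s =
      er (seq X).X₃ (cH j e') (er (seq X).X₃ ((EtCore.topIsTerminal X).from (cE j Aa)) σ) := by
    rw [hgfrom]
    refine (map_sub _ _ _).trans ?_
    rw [er_app, ht, hgfrom]
    rw [show ((seq X).g.hom.app (op (cE j C'))).hom (((seq X).f.hom.app (op (cE j C'))).hom w) = 0 from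
      congrArg (fun k : (seq X).X₁ ⟶ (seq X).X₃ => k.hom.app (op (cE j C')) w) (seq X).zero, sub_zero]
  show er (seq X).X₃ (c ≫ cH j e') _ = er (seq X).X₃ (c ≫ cH j e') _
  rw [← er_er _ c (cH j e') rfl, ← er_er _ c (cH j e') rfl, ← er_app]
  rw [show er (seq X).X₂ (cH j e') t' = s from ht', h1]

end Affine

/-- A section of `I / G_m` lifts Zariski locally. -/
theorem exists_local_lift (σ : (seq X).X₃.obj.obj (op (EtCoh.top X))) (x : X) :
    ∃ V : X.Opens, x ∈ V ∧ ∃ t : (seq X).X₂.obj.obj (op ((EtZar.zarToEt X).obj V)),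
      ((seq X).g.hom.app (op ((EtZar.zarToEt X).obj V))).hom t =
        er (seq X).X₃ ((EtCore.topIsTerminal X).from ((EtZar.zarToEt X).obj V)) σ := by
  have hloc : Presheaf.IsLocallySurjective X.smallEtaleTopology (seq X).g.hom :=
    (Sheaf.isLocallySurjective_iff_epi' AddCommGrpCat.{u + 1} (seq X).g).2 (seq_shortExact X).epi_g
  obtain ⟨T₀, g₀, v, ⟨y, hy⟩, hv⟩ := EtaleSite.Covers.exists_of_mem (hloc.imageSieve_mem σ) x
  have hg₀ : T₀.hom = g₀.left := (MorphismProperty.Over.w g₀).symm.trans (Category.comp_id _)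
  have hvx : T₀.hom v = x := by rw [hg₀]; exact hv
  haveI : Etale T₀.hom := T₀.prop
  obtain ⟨U₀, hU₀, hxU₀, -⟩ := exists_isAffineOpen_mem_and_subset (x := x) (U := ⊤) trivial
  obtain ⟨O₀, hO₀, hvO₀, hO₀U⟩ := exists_isAffineOpen_mem_and_subset (x := v) (U := T₀.hom ⁻¹ᵁ U₀)
    (show T₀.hom v ∈ U₀ by rw [hvx]; exact hxU₀)
  let Im : X.Opens := ⟨T₀.hom '' (O₀ : Set T₀.left), T₀.hom.isOpenMap _ O₀.2⟩
  obtain ⟨b, hbIm, hxb⟩ := hU₀.exists_basicOpen_le (V := Im) ⟨x, ⟨v, hvO₀, hvx⟩⟩ hxU₀
  let U := X.basicOpen b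
  have hU : IsAffineOpen U := hU₀.basicOpen b
  let O : T₀.left.Opens := T₀.left.basicOpen (T₀.hom.appLE U₀ O₀ hO₀U b)
  have hO : IsAffineOpen O := hO₀.basicOpen _
  have hOe : O = O₀ ⊓ T₀.hom ⁻¹ᵁ U :=
    (Scheme.basicOpen_res T₀.left (T₀.hom.app U₀ b) (homOfLE hO₀U).op).trans
      (congrArg (O₀ ⊓ ·) (Scheme.preimage_basicOpen T₀.hom b).symm)
  let A : Type u := Γ(X, U)
  let C : Type u := Γ(T₀.left, O)
  let j : XA A ⟶ X := hU.fromSpec
  let k : Spec (CommRingCat.of C) ⟶ X := hO.fromSpec ≫ T₀.hom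
  have hk : Set.range k ⊆ Set.range j := by
    rintro _ ⟨z, rfl⟩
    rw [show Set.range j = (U : Set X) from hU.range_fromSpec]
    have hz : hO.fromSpec z ∈ (O : Set T₀.left) := hO.range_fromSpec.subset ⟨z, rfl⟩
    have hz' : hO.fromSpec z ∈ O₀ ⊓ T₀.hom ⁻¹ᵁ U := hOe.le hz
    exact hz'.2
  obtain ⟨ψ, hψ⟩ := Spec.map_surjective (IsOpenImmersion.lift j k hk)
  let _ : Algebra A C := ψ.hom.toAlgebra
  have hjk : Spec.map (CommRingCat.ofHom (algebraMap A C)) ≫ j = k := by
    rw [show CommRingCat.ofHom (algebraMap A C) = ψ from rfl, hψ]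
    exact IsOpenImmersion.lift_fac _ _ _
  haveI hC : Algebra.Etale A C := by
    have h1 : Etale (Spec.map (CommRingCat.ofHom (algebraMap A C))) := by
      have : Etale (Spec.map (CommRingCat.ofHom (algebraMap A C)) ≫ j) := by rw [hjk]; infer_instance
      exact Etale.of_comp _ j
    rw [HasRingHomProperty.Spec_iff (P := @Etale)] at h1
    exact RingHom.etale_algebraMap.1 h1
  haveI : Module.FaithfullyFlat A C := by
    refine Module.FaithfullyFlat.of_comap_surjective fun q => ?_
    have hqU : j q ∈ (U : Set X) := hU.range_fromSpec.subset ⟨q, rfl⟩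
    obtain ⟨z₀, hz₀, hz₀q⟩ := hbIm hqU
    have hzO : z₀ ∈ (O : Set T₀.left) :=
      hOe.ge ⟨hz₀, show T₀.hom z₀ ∈ U by rw [hz₀q]; exact hqU⟩
    obtain ⟨z, hz⟩ := hO.range_fromSpec.ge hzO
    refine ⟨z, j.isOpenEmbedding.injective ?_⟩
    show (Spec.map (CommRingCat.ofHom (algebraMap A C)) ≫ j) z = j q
    rw [hjk, ← hz₀q, ← hz]
    rfl
  let m : cE j C ⟶ T₀ := MorphismProperty.Over.homMk hO.fromSpec hjk.symm
  have ht : ((seq X).g.hom.app (op (cE j C))).hom (er (seq X).X₂ m y) =
      er (seq X).X₃ ((EtCore.topIsTerminal X).from (cE j C)) σ := by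
    rw [er_app]
    refine (congrArg (er (seq X).X₃ m) hy).trans ?_
    exact er_er _ m g₀ ((EtCore.topIsTerminal X).hom_ext _ _) σ
  obtain ⟨q, hq⟩ := hU.range_fromSpec.ge (show x ∈ (U : Set X) from hxb)
  obtain ⟨a, ha, t', ht'⟩ := exists_lift_away j σ C _ ht q
  let ia := Spec.map (CommRingCat.ofHom (algebraMap A (Localization.Away a))) ≫ j
  haveI : IsOpenImmersion (Spec.map (CommRingCat.ofHom (algebraMap A (Localization.Away a)))) :=
    IsOpenImmersion.of_isLocalization a
  haveI : IsOpenImmersion ia := inferInstance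
  refine ⟨ia.opensRange, ?_, ?_⟩
  · have hq' : q ∈ Set.range (Spec.map (CommRingCat.ofHom (algebraMap A (Localization.Away a)))) := by
      rw [show Set.range (Spec.map (CommRingCat.ofHom (algebraMap A (Localization.Away a)))) =
        (PrimeSpectrum.basicOpen a : Set (PrimeSpectrum A)) from
          PrimeSpectrum.localization_away_comap_range (Localization.Away a) a]
      exact ha
    obtain ⟨z, hz⟩ := hq'
    exact ⟨z, (show j (Spec.map _ z) = x by rw [hz]; exact hq)⟩
  · let d : (EtZar.zarToEt X).obj ia.opensRange ⟶ cE j (Localization.Away a) :=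
      MorphismProperty.Over.homMk ia.isoOpensRange.inv ia.isoOpensRange_inv_comp
    refine ⟨er (seq X).X₂ d t', ?_⟩
    rw [er_app, ht']
    exact er_er _ d _ ((EtCore.topIsTerminal X).hom_ext _ _) σ

end Groth.Agent.EtPicard
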