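import Groth.Agent.UnitsThick.PicH1

/-!
# Invertible modules from sections of a quotient by units

`Setting X`: sheaves `G`, `Q` on the opens of `X`, `O^× → G → Q` left exact, restrictions of `G`
surjective.  Locally liftable global sections of `Q` correspond to invertible modules.
-/

set_option autoImplicit false
set_option backward.isDefEq.respectTransparency false
set_option backward.isDefEq.respectTransparency.types false

universe v u

open CategoryTheory CategoryTheory.Limits AlgebraicGeometry Opposite TopologicalSpace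

noncomputable section

namespace Groth.Agent.EtPicard

open Groth.Agent.QCoh (rres rres_rres res res_res res_smul)
open Groth.Agent.Props.GenLocus (IsGen)
open Groth.Agent.Props.GenTensor (tmul res_tmul tmul_smul_left tmul_smul_right isGen_tmul)
open Groth.Agent.PicUnits (ures)

/-- Sheaves containing the units. -/
structure Setting (X : Scheme.{u}) where
  /-- middle -/
  G : X.Opens → Type v
  [grpG : ∀ V, AddCommGroup (G V)]
  /-- quotient -/
  Q : X.Opens → Type v
  [grpQ : ∀ V, AddCommGroup (Q V)]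
  /-- restriction -/
  resG : ∀ {U V : X.Opens}, V ≤ U → (G U →+ G V)
  resG_resG : ∀ {U V W : X.Opens} (h : V ≤ U) (h' : W ≤ V) (s : G U), resG h' (resG h s) = resG (h'.trans h) s
  /-- restriction -/
  resQ : ∀ {U V : X.Opens}, V ≤ U → (Q U →+ Q V)
  resQ_resQ : ∀ {U V W : X.Opens} (h : V ≤ U) (h' : W ≤ V) (s : Q U), resQ h' (resQ h s) = resQ (h'.trans h) s
  /-- projection -/
  π : ∀ V, G V →+ Q V
  π_res : ∀ {U V : X.Opens} (h : V ≤ U) (s : G U), π V (resG h s) = resQ h (π U s)
  /-- units -/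
  uel : ∀ V : X.Opens, (Γ(X, V))ˣ → G V
  uel_mul : ∀ (V : X.Opens) (a b : (Γ(X, V))ˣ), uel V (a * b) = uel V a + uel V b
  uel_res : ∀ {U V : X.Opens} (h : V ≤ U) (a : (Γ(X, U))ˣ), resG h (uel U a) = uel V (ures h a)
  uel_inj : ∀ V : X.Opens, Function.Injective (uel V)
  π_uel : ∀ (V : X.Opens) (a : (Γ(X, V))ˣ), π V (uel V a) = 0
  exact : ∀ (V : X.Opens) (t : G V), π V t = 0 → ∃ a, uel V a = t
  extG : ∀ {κ : Type u} (W : κ → X.Opens) (A : X.Opens) (hW : ∀ k, W k ≤ A), (∀ x ∈ A, ∃ k, x ∈ W k) →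
    ∀ a b : G A, (∀ k, resG (hW k) a = resG (hW k) b) → a = b
  glueG : ∀ {κ : Type u} (W : κ → X.Opens) (A : X.Opens) (hW : ∀ k, W k ≤ A), (∀ x ∈ A, ∃ k, x ∈ W k) →
    ∀ g : ∀ k, G (W k), (∀ k l, resG (inf_le_left : W k ⊓ W l ≤ W k) (g k) = resG inf_le_right (g l)) →
      ∃ t : G A, ∀ k, resG (hW k) t = g k
  extQ : ∀ {κ : Type u} (W : κ → X.Opens), (∀ x, ∃ k, x ∈ W k) →
    ∀ a b : Q ⊤, (∀ k, resQ (le_top : W k ≤ ⊤) a = resQ le_top b) → a = b
  glueQ : ∀ {κ : Type u} (W : κ → X.Opens), (∀ x, ∃ k, x ∈ W k) →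
    ∀ g : ∀ k, Q (W k), (∀ k l, resQ (inf_le_left : W k ⊓ W l ≤ W k) (g k) = resQ inf_le_right (g l)) →
      ∃ t : Q ⊤, ∀ k, resQ le_top t = g k
  surj : ∀ {U V : X.Opens} (h : V ≤ U), Function.Surjective (resG h)
  liftable : ∀ (s : Q ⊤) (x : X), ∃ W : X.Opens, x ∈ W ∧ ∃ g : G W, π W g = resQ le_top s

attribute [instance] Setting.grpG Setting.grpQ

variable {X : Scheme.{u}} (S : Setting.{v} X)

lemma uel_one (V : X.Opens) : S.uel V 1 = 0 := by
  have h := S.uel_mul V 1 1
  rw [one_mul] at h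
  exact left_eq_add.1 h

/-- Lifts of `s` with the generators of `L` transforming by their differences. -/
structure Datum (s : S.Q ⊤) (L : X.Modules) where
  /-- indices -/
  ι : Type u
  /-- opens -/
  W : ι → X.Opens
  cover : ∀ x, ∃ i, x ∈ W i
  /-- lifts -/
  g : ∀ i, S.G (W i)
  hg : ∀ i, S.π (W i) (g i) = S.resQ le_top s
  /-- generators -/
  e : ∀ i, Γ(L, W i)
  gen : ∀ i, IsGen L (W i) (e i)
  compat : ∀ (i j : ι) (V : X.Opens) (hi : V ≤ W i) (hj : V ≤ W j) (a : (Γ(X, V))ˣ),
    S.resG hj (g j) = S.resG hi (g i) + S.uel V a →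
      res L hj (e j) = (a : Γ(X, V)) • res L hi (e i)

variable {S}

theorem exists_diff {s : S.Q ⊤} {U₁ U₂ V : X.Opens} (h₁ : V ≤ U₁) (h₂ : V ≤ U₂) {g₁ : S.G U₁} {g₂ : S.G U₂}
    (hg₁ : S.π U₁ g₁ = S.resQ le_top s) (hg₂ : S.π U₂ g₂ = S.resQ le_top s) :
    ∃ a, S.resG h₂ g₂ = S.resG h₁ g₁ + S.uel V a := by
  obtain ⟨a, ha⟩ := S.exact V (S.resG h₂ g₂ - S.resG h₁ g₁) (by
    rw [map_sub, S.π_res, S.π_res, hg₁, hg₂, S.resQ_resQ, S.resQ_resQ, sub_self])
  exact ⟨a, by rw [ha]; abel⟩

namespace Datum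

variable {s t : S.Q ⊤} {L M : X.Modules}

theorem isInvertible (d : Datum S s L) : PicF.IsInvertible L := fun z => by
  obtain ⟨i, hi⟩ := d.cover z
  exact ⟨d.W i, hi, LFFrame.IsFrame.nonempty_restrict_iso
    ((Props.GenLocus.isGen_iff_isFrame _).1 (d.gen i))⟩

/-- The product of two data. -/
def mul (d : Datum S s L) (d' : Datum S t M) : Datum S (s + t) (CohB1.tensorMod L M) where
  ι := d.ι × d'.ι
  W k := d.W k.1 ⊓ d'.W k.2
  cover y := by
    obtain ⟨i, hi⟩ := d.cover y
    obtain ⟨j, hj⟩ := d'.cover y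
    exact ⟨(i, j), hi, hj⟩
  g k := S.resG inf_le_left (d.g k.1) + S.resG inf_le_right (d'.g k.2)
  hg k := by
    rw [map_add, map_add, S.π_res, S.π_res, d.hg, d'.hg, S.resQ_resQ, S.resQ_resQ]
  e k := tmul (res L inf_le_left (d.e k.1)) (res M inf_le_right (d'.e k.2))
  gen k := isGen_tmul ((d.gen k.1).restrict _) ((d'.gen k.2).restrict _)
  compat k l V hk hl a h := by
    obtain ⟨a₁, h₁⟩ := exists_diff (hk.trans inf_le_left) (hl.trans inf_le_left) (d.hg k.1) (d.hg l.1)
    obtain ⟨a₂, h₂⟩ := exists_diff (hk.trans inf_le_right) (hl.trans inf_le_right) (d'.hg k.2) (d'.hg l.2)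
    simp only [map_add, S.resG_resG] at h
    rw [h₁, h₂, add_add_add_comm, ← S.uel_mul] at h
    rw [← S.uel_inj V (add_left_cancel h), Units.val_mul, res_tmul, res_tmul, res_res, res_res,
      res_res, res_res, d.compat k.1 l.1 V (hk.trans inf_le_left) (hl.trans inf_le_left) a₁ h₁,
      d'.compat k.2 l.2 V (hk.trans inf_le_right) (hl.trans inf_le_right) a₂ h₂,
      tmul_smul_left, tmul_smul_right, smul_smul]

/-- Shift by a global section. -/
def shift (d : Datum S s L) (w : S.G ⊤) : Datum S (s + S.π ⊤ w) L where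
  ι := d.ι
  W := d.W
  cover := d.cover
  g i := d.g i + S.resG le_top w
  hg i := by rw [map_add, map_add, d.hg, S.π_res]
  e := d.e
  gen := d.gen
  compat i j V hi hj a h := d.compat i j V hi hj a (by
    simp only [map_add, S.resG_resG] at h
    rw [add_right_comm] at h
    exact add_right_cancel h)

/-- Modules with data for the same section are isomorphic. -/
theorem nonempty_iso (d : Datum S s L) (d' : Datum S s M) : Nonempty (L ≅ M) := by
  choose c hc using fun k : d.ι × d'.ι =>
    exists_diff (V := d.W k.1 ⊓ d'.W k.2) inf_le_right inf_le_left (d'.hg k.2) (d.hg k.1)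
  obtain ⟨e, -⟩ := AmpleLib.exists_iso_of_gen (M := L) (N := M) (fun k : d.ι × d'.ι => d.W k.1 ⊓ d'.W k.2)
    (fun z _ => by
      obtain ⟨i, hi⟩ := d.cover z
      obtain ⟨j, hj⟩ := d'.cover z
      exact Opens.mem_iSup.2 ⟨(i, j), hi, hj⟩)
    (fun k => res L inf_le_left (d.e k.1)) (fun k => (d.gen k.1).restrict _)
    (fun k => (c k : Γ(X, d.W k.1 ⊓ d'.W k.2)) • res M inf_le_right (d'.e k.2))
    (fun k => ((d'.gen k.2).restrict _).smul_unit (c k).isUnit)
    (fun k l V hk hl v hv => by
      let V₀ : X.Opens := (d.W k.1 ⊓ d'.W k.2) ⊓ (d.W l.1 ⊓ d'.W l.2)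
      have hV : V ≤ V₀ := le_inf hk hl
      have hk₀ : V₀ ≤ d.W k.1 ⊓ d'.W k.2 := inf_le_left
      have hl₀ : V₀ ≤ d.W l.1 ⊓ d'.W l.2 := inf_le_right
      obtain ⟨a, ha⟩ := exists_diff (hk₀.trans inf_le_left) (hl₀.trans inf_le_left) (d.hg k.1) (d.hg l.1)
      obtain ⟨a', ha'⟩ := exists_diff (hk₀.trans inf_le_right) (hl₀.trans inf_le_right) (d'.hg k.2) (d'.hg l.2)
      have hck := congrArg (S.resG hk₀) (hc k)
      have hcl := congrArg (S.resG hl₀) (hc l)
      simp only [map_add, S.resG_resG, S.uel_res] at hck hcl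
      rw [ha, ha', hck, add_assoc, add_assoc, ← S.uel_mul, ← S.uel_mul] at hcl
      have hkey := S.uel_inj V₀ (add_left_cancel hcl)
      have h1 := congrArg (res L hV) (d.compat k.1 l.1 V₀ (hk₀.trans inf_le_left) (hl₀.trans inf_le_left) a ha)
      have h2 := congrArg (res M hV)
        (d'.compat k.2 l.2 V₀ (hk₀.trans inf_le_right) (hl₀.trans inf_le_right) a' ha')
      rw [res_res, res_smul, res_res] at h1 h2
      rw [res_res, res_res] at hv
      have hva : v = rres hV (a : Γ(X, V₀)) :=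
        (d.gen k.1).injective (hk.trans inf_le_left) (hv.symm.trans h1)
      rw [hva, res_smul, res_smul, res_res, res_res, h2, smul_smul, smul_smul]
      refine congrArg (· • _) ?_
      have h3 := congrArg (fun b : (Γ(X, V₀))ˣ => rres hV (b : Γ(X, V₀))) hkey
      simp only [Units.val_mul, Units.coe_map, map_mul, MonoidHom.coe_coe, RingHom.toMonoidHom_eq_coe,
        rres_rres] at h3
      linear_combination -h3)
  exact ⟨e⟩

end Datum

/-- Every section has a module. -/
theorem exists_datum (s : S.Q ⊤) : ∃ L : X.Modules, Nonempty (Datum S s L) := by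
  choose W hyW g hg using S.liftable s
  choose a ha using fun i j : X => exists_diff (V := W i ⊓ W j) inf_le_left inf_le_right (hg i) (hg j)
  have key : ∀ (i j : X) (V : X.Opens) (hi : V ≤ W i) (hj : V ≤ W j) (b : (Γ(X, V))ˣ),
      S.resG hj (g j) = S.resG hi (g i) + S.uel V b → ures (le_inf hi hj) (a i j) = b := by
    intro i j V hi hj b hb
    have h := congrArg (S.resG (le_inf hi hj)) (ha i j)
    simp only [map_add, S.resG_resG, S.uel_res] at h
    exact S.uel_inj V (add_left_cancel (h.symm.trans hb))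
  let C : LineCoc.Cocycle X :=
    { ι := X
      W := W
      a := fun i j => (a i j : Γ(X, W i ⊓ W j))
      cover := fun z _ => Opens.mem_iSup.2 ⟨z, hyW z⟩
      self := fun i => by
        have h := key i i (W i ⊓ W i) inf_le_left inf_le_right 1 (by rw [uel_one, add_zero])
        exact (congrArg Units.val ((Units.ext (Groth.Agent.QCoh.rres_self _ _)).symm.trans h)).trans rfl
      coc := fun i j k V h₁ h₂ h₃ => by
        let V₀ : X.Opens := W i ⊓ W j ⊓ W k
        have hV : V ≤ V₀ := le_inf h₁ (h₂.trans inf_le_right)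
        have hi : V₀ ≤ W i := inf_le_left.trans inf_le_left
        have hj : V₀ ≤ W j := inf_le_left.trans inf_le_right
        have hk : V₀ ≤ W k := inf_le_right
        obtain ⟨b, hb⟩ := exists_diff hi hj (hg i) (hg j)
        obtain ⟨b', hb'⟩ := exists_diff hj hk (hg j) (hg k)
        have h3 := key i k V₀ hi hk (b * b') (by rw [S.uel_mul, ← add_assoc, ← hb, ← hb'])
        rw [← key i j V₀ hi hj b hb, ← key j k V₀ hj hk b' hb'] at h3
        have h4 := congrArg (fun b : (Γ(X, V₀))ˣ => rres hV (b : Γ(X, V₀))) h3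
        simp only [Units.val_mul, Units.coe_map, map_mul, MonoidHom.coe_coe, RingHom.toMonoidHom_eq_coe,
          rres_rres] at h4
        exact h4.symm }
  refine ⟨LineCoc.mod C, ⟨{
    ι := X
    W := W
    cover := fun y => ⟨y, hyW y⟩
    g := g
    hg := hg
    e := LineCoc.gen C
    gen := LineCoc.isGen_gen C
    compat := fun i j V hi hj b hb => ?_ }⟩⟩
  have h := congrArg (res (LineCoc.mod C) (le_inf hi hj)) (LineCoc.res_gen_eq C i j)
  rw [res_smul, res_res, res_res] at h
  refine h.trans (congrArg (· • _) ?_)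
  exact congrArg Units.val (key i j V hi hj b hb)

/-- A section with trivial module lifts. -/
theorem exists_lift_of_iso {s : S.Q ⊤} {L : X.Modules} (d : Datum S s L) (φ : L ≅ Coh.structureModule X) :
    ∃ w, S.π ⊤ w = s := by
  let e' : ∀ i, Γ(X, d.W i) := fun i => φ.hom.app (d.W i) (d.e i)
  have hu : ∀ i, IsUnit (e' i) := fun i => by
    have hg := InvOfTensor.isGen_of_iso φ.hom (d.gen i)
    obtain ⟨b, hb⟩ := (hg _ le_rfl).2 (1 : Γ(X, d.W i))
    exact isUnit_iff_exists_inv'.2 ⟨b, (congrArg (b * ·) (Groth.Agent.QCoh.rres_self le_rfl (e' i)).symm).trans hb⟩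
  let u := fun i => (hu i).unit
  have hrel : ∀ i j, ∀ a, S.resG (inf_le_right : d.W i ⊓ d.W j ≤ d.W j) (d.g j) =
      S.resG (inf_le_left : d.W i ⊓ d.W j ≤ d.W i) (d.g i) + S.uel _ a →
      ures inf_le_right (u j) = a * ures inf_le_left (u i) := by
    intro i j a ha
    have h := congrArg (φ.hom.app _) (d.compat i j _ inf_le_left inf_le_right a ha)
    rw [Scheme.Modules.Hom.app_smul, Groth.Agent.QCoh.app_res, Groth.Agent.QCoh.app_res] at h
    exact Units.ext h
  obtain ⟨w, hw⟩ := S.glueG d.W ⊤ (fun _ => le_top) (fun x _ => d.cover x) (fun i => d.g i - S.uel _ (u i))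
    fun i j => by
      obtain ⟨a, ha⟩ := exists_diff (inf_le_left : d.W i ⊓ d.W j ≤ d.W i) inf_le_right (d.hg i) (d.hg j)
      rw [map_sub, map_sub, ha, S.uel_res, S.uel_res, hrel i j a ha, S.uel_mul]
      abel
  exact ⟨w, S.extQ d.W d.cover _ _ fun i => by rw [← S.π_res, hw, map_sub, S.π_uel, sub_zero, d.hg]⟩

/-- A partial family of lifts. -/
structure Part {ι : Type u} (U : ι → X.Opens) (a : ∀ i j, (Γ(X, U i ⊓ U j))ˣ) where
  /-- domain -/
  J : Set ι
  /-- sections -/
  t : ∀ i, i ∈ J → S.G (U i)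
  ht : ∀ i j (hi : i ∈ J) (hj : j ∈ J),
    S.resG (inf_le_right : U i ⊓ U j ≤ U j) (t j hj) = S.resG inf_le_left (t i hi) + S.uel _ (a i j)

/-- A cocycle of units is a coboundary in `G`. -/
theorem exists_trivialisation {ι : Type u} (U : ι → X.Opens) (a : ∀ i j, (Γ(X, U i ⊓ U j))ˣ)
    (ha : ∀ i j k (V : X.Opens) (h₁ : V ≤ U i ⊓ U j) (h₂ : V ≤ U j ⊓ U k) (h₃ : V ≤ U i ⊓ U k),
      ures h₁ (a i j) * ures h₂ (a j k) = ures h₃ (a i k)) :
    ∃ t : ∀ i, S.G (U i), ∀ i j,
      S.resG (inf_le_right : U i ⊓ U j ≤ U j) (t j) = S.resG inf_le_left (t i) + S.uel _ (a i j) := by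
  classical
  let r : Part (S := S) U a → Part (S := S) U a → Prop := fun p q => ∃ h : p.J ⊆ q.J, ∀ i hi, q.t i (h hi) = p.t i hi
  have htr : ∀ {p q w}, r p q → r q w → r p w := by
    rintro p q w ⟨h, e⟩ ⟨h', e'⟩
    exact ⟨h.trans h', fun i hi => (e' i (h hi)).trans (e i hi)⟩
  have hchain : ∀ c : Set (Part (S := S) U a), IsChain r c → ∃ ub, ∀ p ∈ c, r p ub := by
    intro c hc
    let J : Set ι := {i | ∃ p ∈ c, i ∈ p.J}
    have hex : ∀ i ∈ J, ∃ p ∈ c, i ∈ p.J := fun i hi => hi
    choose pp hpc hpi using hex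
    have hcons : ∀ (p q : Part (S := S) U a), p ∈ c → q ∈ c → ∀ i (hi : i ∈ p.J) (hi' : i ∈ q.J),
        p.t i hi = q.t i hi' := by
      intro p q hp hq i hi hi'
      by_cases hpq : p = q
      · subst hpq; rfl
      · rcases hc hp hq hpq with ⟨h, e⟩ | ⟨h, e⟩
        · exact (e i hi).symm
        · exact e i hi'
    refine ⟨⟨J, fun i hi => (pp i hi).t i (hpi i hi), fun i j hi hj => ?_⟩,
      fun p hp => ⟨fun i hi => ⟨p, hp, hi⟩, fun i hi => hcons _ _ (hpc _ _) hp i _ hi⟩⟩
    by_cases e : pp i hi = pp j hj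
    · have hij : i ∈ (pp j hj).J := e ▸ hpi i hi
      rw [hcons _ _ (hpc i hi) (hpc j hj) i _ hij]
      exact (pp j hj).ht i j hij _
    · rcases hc (hpc i hi) (hpc j hj) e with ⟨h, e'⟩ | ⟨h, e'⟩
      · rw [← e' i (hpi i hi)]
        exact (pp j hj).ht i j _ _
      · rw [← e' j (hpi j hj)]
        exact (pp i hi).ht i j _ _
  obtain ⟨m, hm⟩ := exists_maximal_of_chains_bounded hchain htr
  have hall : ∀ k, k ∈ m.J := by
    intro k
    by_contra hk
    have key : ∀ i j k' (V : X.Opens) (hi : V ≤ U i) (hj : V ≤ U j) (hk' : V ≤ U k'),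
        S.uel V (ures (le_inf hi hj) (a i j)) + S.uel V (ures (le_inf hj hk') (a j k')) =
          S.uel V (ures (le_inf hi hk') (a i k')) := fun i j k' V hi hj hk' => by
      rw [← S.uel_mul, ha]
    let A : X.Opens := ⨆ i : m.J, U k ⊓ U i
    have hAk : A ≤ U k := iSup_le fun i => inf_le_left
    obtain ⟨z, hz⟩ := S.glueG (fun i : m.J => U k ⊓ U i) A (fun i => le_iSup (fun i : m.J => U k ⊓ U i) i)
      (fun x hx => Opens.mem_iSup.1 hx)
      (fun i => S.resG inf_le_right (m.t i i.2) + S.uel _ (ures (le_inf inf_le_right inf_le_left) (a i k)))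
      fun i j => by
        let V : X.Opens := (U k ⊓ U i) ⊓ (U k ⊓ U j)
        have hi : V ≤ U i := inf_le_left.trans inf_le_right
        have hj : V ≤ U j := inf_le_right.trans inf_le_right
        have hk : V ≤ U k := inf_le_left.trans inf_le_left
        have h := congrArg (S.resG (le_inf hi hj)) (m.ht i j i.2 j.2)
        simp only [map_add, S.resG_resG, S.uel_res] at h ⊢
        have hu : ∀ {P P' : X.Opens} (h₁ : P' ≤ P) (h₂ : V ≤ P') (x : (Γ(X, P))ˣ),
            ures h₂ (ures h₁ x) = ures (h₂.trans h₁) x := fun h₁ h₂ x => Units.ext (rres_rres _ _ _)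
        rw [hu, hu, h, add_assoc, key i j k V hi hj hk]
    obtain ⟨tk, htk⟩ := S.surj hAk z
    have hnew : ∀ i (hi : i ∈ m.J), S.resG (inf_le_left : U k ⊓ U i ≤ U k) tk =
        S.resG inf_le_right (m.t i hi) + S.uel _ (ures (le_inf inf_le_right inf_le_left) (a i k)) := fun i hi => by
      rw [← hz ⟨i, hi⟩, ← htk, S.resG_resG]
    have haself : ∀ i, a i i = 1 := fun i => by
      have h := ha i i i (U i ⊓ U i) le_rfl le_rfl le_rfl
      have h' := mul_eq_left.1 h
      exact (Units.ext (Groth.Agent.QCoh.rres_self _ _)).symm.trans h'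
    let m' : Part (S := S) U a :=
      { J := insert k m.J
        t := fun i hi => if h : i ∈ m.J then m.t i h else
          (show i = k from hi.resolve_right h) ▸ tk
        ht := fun i j hi hj => by
          by_cases hi' : i ∈ m.J <;> by_cases hj' : j ∈ m.J
          · simp only [hi', hj', dif_pos]; exact m.ht i j hi' hj'
          · obtain rfl : j = k := hj.resolve_right hj'
            simp only [hi', hj', dif_pos, dif_neg, not_false_eq_true]
            have h := congrArg (S.resG (le_inf inf_le_right inf_le_left : U i ⊓ U j ≤ U j ⊓ U i)) (hnew i hi')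
            simp only [map_add, S.resG_resG, S.uel_res] at h
            rw [h]
            congr 2
            exact Units.ext ((rres_rres _ _ _).trans (Groth.Agent.QCoh.rres_self _ _))
          · obtain rfl : i = k := hi.resolve_right hi'
            simp only [hi', hj', dif_pos, dif_neg, not_false_eq_true]
            rw [hnew j hj', add_assoc, ← S.uel_mul]
            have h := ha j i j (U i ⊓ U j) (le_inf inf_le_right inf_le_left) le_rfl
              (le_inf inf_le_right inf_le_right)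
            rw [haself j, map_one] at h
            have h0 : ures (le_rfl : U i ⊓ U j ≤ U i ⊓ U j) (a i j) = a i j :=
              Units.ext (Groth.Agent.QCoh.rres_self _ _)
            rw [h0] at h
            rw [h, uel_one, add_zero]
          · obtain rfl : i = k := hi.resolve_right hi'
            obtain rfl : j = i := hj.resolve_right hj'
            simp only [hi', dif_neg, not_false_eq_true]
            rw [haself, uel_one, add_zero] }
    obtain ⟨h, -⟩ := hm m' ⟨Set.subset_insert _ _, fun i hi => by simp [m', hi]⟩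
    exact hk (h (Set.mem_insert _ _))
  exact ⟨fun i => m.t i (hall i), fun i j => m.ht i j _ _⟩

/-- Every invertible module comes from a section. -/
theorem exists_datum_of_isInvertible {L : X.Modules} (hL : PicF.IsInvertible L) :
    ∃ s, Nonempty (Datum S s L) := by
  choose W e hyW he using fun x : X => Props.GenLocus.exists_isGen hL x
  have hex : ∀ (i j : X) (V : X.Opens) (hi : V ≤ W i) (hj : V ≤ W j), ∃ a : (Γ(X, V))ˣ,
      res L hj (e j) = (a : Γ(X, V)) • res L hi (e i) := by
    intro i j V hi hj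
    obtain ⟨a, ha, -⟩ := (he i).exists_eq hi (res L hj (e j))
    obtain ⟨b, hb, -⟩ := (he j).exists_eq hj (res L hi (e i))
    refine ⟨⟨a, b, ?_, ?_⟩, ha⟩
    · refine (he i).injective hi (Eq.trans ?_ (one_smul _ _).symm)
      rw [mul_comm, mul_smul, ← ha, ← hb]
    · refine (he j).injective hj (Eq.trans ?_ (one_smul _ _).symm)
      rw [mul_comm, mul_smul, ← hb, ← ha]
  choose a ha using hex
  have huniq : ∀ (i j : X) (V : X.Opens) (hi : V ≤ W i) (hj : V ≤ W j) (b : (Γ(X, V))ˣ),
      res L hj (e j) = (b : Γ(X, V)) • res L hi (e i) → a i j V hi hj = b := fun i j V hi hj b hb =>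
    Units.ext ((he i).injective hi ((ha i j V hi hj).symm.trans hb))
  have hres : ∀ (i j : X) {P V : X.Opens} (hi : P ≤ W i) (hj : P ≤ W j) (h : V ≤ P),
      ures h (a i j P hi hj) = a i j V (h.trans hi) (h.trans hj) := fun i j P V hi hj h => by
    refine (huniq i j V _ _ _ ?_).symm
    have e' := congrArg (res L h) (ha i j P hi hj)
    rw [res_smul, res_res, res_res] at e'
    exact e'
  obtain ⟨t, ht⟩ := exists_trivialisation (S := S) W (fun i j => a i j (W i ⊓ W j) inf_le_left inf_le_right)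
    fun i j k V h₁ h₂ h₃ => by
      rw [hres, hres, hres]
      refine (huniq i k V _ _ _ ?_).symm
      rw [Units.val_mul, ha j k V _ (h₂.trans inf_le_right), ha i j V (h₁.trans inf_le_left) _, smul_smul, mul_comm]
  obtain ⟨s, hs⟩ := S.glueQ W (fun y => ⟨y, hyW y⟩) (fun i => S.π _ (t i)) fun i j => by
    rw [← S.π_res, ← S.π_res, ht i j, map_add, S.π_uel, add_zero]
  exact ⟨s, ⟨{
    ι := X
    W := W
    cover := fun y => ⟨y, hyW y⟩
    g := t
    hg := fun i => (hs i).symm
    e := e
    gen := he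
    compat := fun i j V hi hj b hb => by
      have h := congrArg (S.resG (le_inf hi hj)) (ht i j)
      simp only [map_add, S.resG_resG, S.uel_res] at h
      rw [hres] at h
      rw [← S.uel_inj V (add_left_cancel (h.symm.trans hb))]
      exact ha i j V hi hj }⟩⟩

/-- The trivial datum. -/
def Datum.trivial (S : Setting.{v} X) : Datum S 0 (Coh.structureModule X) where
  ι := PUnit
  W _ := ⊤
  cover _ := ⟨⟨⟩, ⟨⟩⟩
  g _ := 0
  hg _ := by rw [map_zero, map_zero]
  e _ := (1 : Γ(X, ⊤))
  gen _ := fun V hV => by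
    constructor
    · intro b b' h
      have h' : b * rres hV (1 : Γ(X, ⊤)) = b' * rres hV (1 : Γ(X, ⊤)) := h
      simpa using h'
    · intro m
      refine ⟨m, ?_⟩
      show (show Γ(X, V) from m) * rres hV (1 : Γ(X, ⊤)) = m
      rw [map_one, mul_one]
  compat i j V hi hj a h := by
    rw [map_zero, zero_add] at h
    have : a = 1 := S.uel_inj V (by rw [← h, uel_one])
    rw [this, Units.val_one, one_smul]

/-- Vanishing of the classes means every invertible module is trivial. -/
theorem forall_lift_iff (S : Setting.{v} X) :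
    (∀ s : S.Q ⊤, ∃ w, S.π ⊤ w = s) ↔ ∀ L : X.Modules, PicF.IsInvertible L → Nonempty (L ≅ Coh.structureModule X) := by
  constructor
  · intro h L hL
    obtain ⟨s, ⟨d⟩⟩ := exists_datum_of_isInvertible (S := S) hL
    obtain ⟨w, hw⟩ := h s
    have e : 0 + S.π ⊤ w = s := by rw [zero_add, hw]
    exact d.nonempty_iso (e ▸ (Datum.trivial S).shift w)
  · intro h s
    obtain ⟨L, ⟨d⟩⟩ := exists_datum (S := S) s
    obtain ⟨φ⟩ := h L d.isInvertible
    exact exists_lift_of_iso d φ

/-- The classes form the Picard group. -/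
theorem exists_toPic (S : Setting.{v} X) [PicGrp.Law X] :
    ∃ Φ : S.Q ⊤ →+ Additive (PicLoc.PicSet X), Function.Surjective Φ ∧ Φ.ker = (S.π ⊤).range := by
  choose L hL using fun s : S.Q ⊤ => exists_datum (S := S) s
  have heq : ∀ (s : S.Q ⊤) (M : X.Modules) (d : Datum S s M),
      PicGrp.cls (L s) (hL s).some.isInvertible = PicGrp.cls M d.isInvertible := fun s M d =>
    (PicGrp.cls_eq_cls_iff _ _).2 ((hL s).some.nonempty_iso d)
  let Φ : S.Q ⊤ →+ Additive (PicLoc.PicSet X) :=
    AddMonoidHom.mk' (fun s => Additive.ofMul (PicGrp.cls (L s) (hL s).some.isInvertible)) fun s t => by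
      refine congrArg Additive.ofMul ?_
      rw [heq (s + t) _ ((hL s).some.mul (hL t).some)]
      exact Subtype.ext (PicGrp.cls_mul_cls_val (hL s).some.isInvertible (hL t).some.isInvertible).symm
  refine ⟨Φ, fun x => ?_, ?_⟩
  · obtain ⟨M, hM, h⟩ := PicGrp.exists_eq_cls (Additive.toMul x)
    obtain ⟨s, ⟨d⟩⟩ := exists_datum_of_isInvertible (S := S) hM
    exact ⟨s, congrArg Additive.ofMul ((heq s M d).trans h.symm)⟩
  · ext s
    constructor
    · intro h
      have h' : PicGrp.cls (L s) (hL s).some.isInvertible = 1 := congrArg Additive.toMul h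
      obtain ⟨φ⟩ := (PicGrp.cls_eq_one_iff _).1 h'
      exact exists_lift_of_iso (hL s).some φ
    · rintro ⟨w, rfl⟩
      have e : 0 + S.π ⊤ w = S.π ⊤ w := zero_add _
      refine congrArg Additive.ofMul ((heq _ _ (e ▸ (Datum.trivial S).shift w)).trans ?_)
      exact (PicGrp.cls_eq_one_iff _).2 ⟨Iso.refl _⟩

end Groth.Agent.EtPicard
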