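import Groth.Agent.EtPicard.Local
import Groth.Agent.EtPicard.Setting
import Groth.Agent.EtaleSite.Clopen
import Groth.Agent.EtaleSite.OpenRestrict
import Groth.Agent.GalCohAux.EtLocKill

/-!
# `H¹(X_et, G_m)` and invertible modules
-/

set_option autoImplicit false
set_option backward.isDefEq.respectTransparency false
set_option backward.isDefEq.respectTransparency.types false

universe u

open CategoryTheory CategoryTheory.Limits AlgebraicGeometry Opposite TopologicalSpace

noncomputable section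

namespace Groth.Agent.EtPicard

open Groth.Agent.QCoh (rres)
open Groth.Agent.PicUnits (ures)
open EtaleSite (mem_topology_of_forall_exists isSheaf_forget)

variable (X : Scheme.{u})

/-- An open as an étale scheme. -/
abbrev zo (V : X.Opens) : X.Etale := (EtZar.zarToEt X).obj V

/-- An inclusion of opens. -/
abbrev zm {U V : X.Opens} (h : V ≤ U) : zo X V ⟶ zo X U := (EtZar.zarToEt X).map (homOfLE h)

variable {X}

theorem zm_comp {U V W : X.Opens} (h : V ≤ U) (h' : W ≤ V) : zm X h' ≫ zm X h = zm X (h'.trans h) :=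
  ((EtZar.zarToEt X).map_comp _ _).symm

theorem cover_mem {κ : Type u} (W : κ → X.Opens) (A : X.Opens) (hW : ∀ k, W k ≤ A)
    (hc : ∀ x ∈ A, ∃ k, x ∈ W k) :
    Sieve.generate (Presieve.ofArrows (fun k => zo X (W k)) fun k => zm X (hW k)) ∈
      X.smallEtaleTopology (zo X A) := by
  refine mem_topology_of_forall_exists _ fun a => ?_
  obtain ⟨k, hk⟩ := hc a.1 a.2
  exact ⟨zo X (W k), zm X (hW k), (⟨a.1, hk⟩ : (W k : Scheme.{u})), Sieve.le_generate _ _ _ (Presieve.ofArrows.mk k),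
    Subtype.ext (Scheme.homOfLE_apply (hW k) _)⟩

theorem ext_of_cover (F : EtCoh.Ab X) {κ : Type u} (W : κ → X.Opens) (A : X.Opens) (hW : ∀ k, W k ≤ A)
    (hc : ∀ x ∈ A, ∃ k, x ∈ W k) (a b : F.obj.obj (op (zo X A)))
    (h : ∀ k, er F (zm X (hW k)) a = er F (zm X (hW k)) b) : a = b := by
  refine F.property.isSeparated _ _ (cover_mem W A hW hc) a b ?_
  rintro Z _ ⟨T, c, g, ⟨k⟩, rfl⟩
  show er F (c ≫ zm X (hW k)) a = er F (c ≫ zm X (hW k)) b
  rw [← er_er F c _ rfl, ← er_er F c _ rfl, h]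

theorem glue_of_cover (F : EtCoh.Ab X) {κ : Type u} (W : κ → X.Opens) (A : X.Opens) (hW : ∀ k, W k ≤ A)
    (hc : ∀ x ∈ A, ∃ k, x ∈ W k) (g : ∀ k, F.obj.obj (op (zo X (W k))))
    (hg : ∀ k l, er F (zm X (inf_le_left : W k ⊓ W l ≤ W k)) (g k) = er F (zm X inf_le_right) (g l)) :
    ∃ t, ∀ k, er F (zm X (hW k)) t = g k := by
  have hP : (Presieve.ofArrows (fun k => zo X (W k)) fun k => zm X (hW k)).IsSheafFor
      (F.obj ⋙ forget AddCommGrpCat.{u + 1}) := by
    rw [Presieve.isSheafFor_iff_generate]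
    exact isSheaf_forget F _ (cover_mem W A hW hc)
  rw [Presieve.isSheafFor_arrows_iff] at hP
  obtain ⟨t, ht, -⟩ := hP g fun a b Z ga gb hab => by
    change er F ga (g a) = er F gb (g b)
    have e : ga.left ≫ (W a).ι = gb.left ≫ (W b).ι :=
      (MorphismProperty.Over.w ga).trans (MorphismProperty.Over.w gb).symm
    have hr : Set.range (ga.left ≫ (W a).ι) ⊆ Set.range (W a ⊓ W b).ι := by
      rw [Scheme.Opens.range_ι]
      rintro _ ⟨z, rfl⟩
      refine ⟨(ga.left z).2, ?_⟩
      rw [e]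
      exact (gb.left z).2
    let l₀ := IsOpenImmersion.lift (W a ⊓ W b).ι (ga.left ≫ (W a).ι) hr
    have hl₀ : l₀ ≫ (W a ⊓ W b).ι = ga.left ≫ (W a).ι := IsOpenImmersion.lift_fac _ _ hr
    let l : Z ⟶ zo X (W a ⊓ W b) := MorphismProperty.Over.homMk l₀ (hl₀.trans (MorphismProperty.Over.w ga))
    have ea : l ≫ zm X inf_le_left = ga := MorphismProperty.Over.Hom.ext
      ((cancel_mono (W a).ι).1 ((Category.assoc _ _ _).trans
        ((congrArg (l₀ ≫ ·) (X.homOfLE_ι (inf_le_left : W a ⊓ W b ≤ W a))).trans hl₀)))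
    have eb : l ≫ zm X inf_le_right = gb := MorphismProperty.Over.Hom.ext
      ((cancel_mono (W b).ι).1 ((Category.assoc _ _ _).trans
        ((congrArg (l₀ ≫ ·) (X.homOfLE_ι (inf_le_right : W a ⊓ W b ≤ W b))).trans (hl₀.trans e))))
    rw [← er_er F l _ ea, hg a b, er_er F l _ eb]
  exact ⟨t, ht⟩

/-- Units on an open as sections of `G_m`. -/
def toGm (V : X.Opens) : (Γ(X, V))ˣ →* (Γ((zo X V).left, ⊤) : Type u)ˣ :=
  Units.map V.topIso.inv.hom.toMonoidHom

theorem toGm_bijective (V : X.Opens) : Function.Bijective (toGm V) :=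
  (Units.mapEquiv V.topIso.symm.commRingCatIsoToRingEquiv.toMulEquiv).bijective

theorem er_ofUnit {U V : X.Opens} (h : V ≤ U) (a : (Γ(X, U))ˣ) :
    er (EtCoh.Gm X) (zm X h) (ofUnit (V := zo X U) (toGm U a)) = ofUnit (V := zo X V) (toGm V (ures h a)) := by
  apply uval_inj
  rw [uval_map, uval_ofUnit, uval_ofUnit]
  have hnat : U.topIso.inv ≫ (X.homOfLE h).appTop = rres h ≫ V.topIso.inv := by
    simp only [Scheme.Opens.topIso_inv, Scheme.homOfLE_appTop, Groth.Agent.QCoh.rres, ← Functor.map_comp]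
    congr 1
  exact ConcreteCategory.congr_hom hnat (a : Γ(X, U))

variable (X)

/-- The comparison of the top of the site with the whole scheme. -/
def topHom : zo X ⊤ ⟶ EtCoh.top X := (EtCore.topIsTerminal X).from _

/-- Its inverse. -/
def topInv : EtCoh.top X ⟶ zo X ⊤ :=
  MorphismProperty.Over.homMk X.topIso.inv (show X.topIso.inv ≫ (⊤ : X.Opens).ι = 𝟙 X by
    rw [show (⊤ : X.Opens).ι = X.topIso.hom from rfl, Iso.inv_hom_id])

theorem topHom_topInv : topHom X ≫ topInv X = 𝟙 _ := by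
  refine MorphismProperty.Over.Hom.ext ((cancel_mono (⊤ : X.Opens).ι).1 ?_)
  exact (MorphismProperty.Over.w (topHom X ≫ topInv X)).trans (Category.id_comp _).symm

theorem er_topHom_bijective (F : EtCoh.Ab X) : Function.Bijective (er F (topHom X)) := by
  have h1 : topInv X ≫ topHom X = 𝟙 _ := (EtCore.topIsTerminal X).hom_ext _ _
  refine ⟨fun a b h => ?_, fun b => ⟨er F (topInv X) b, ?_⟩⟩
  · have := congrArg (er F (topInv X)) h
    rw [er_er F _ _ h1, er_er F _ _ h1] at this
    simpa [er] using this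
  · rw [er_er F _ _ (topHom_topInv X)]
    simp [er]

/-- The setting of an injective embedding of `G_m`. -/
def etSetting : Setting.{u + 1} X where
  G V := (seq X).X₂.obj.obj (op (zo X V))
  Q V := (seq X).X₃.obj.obj (op (zo X V))
  resG h := er (seq X).X₂ (zm X h)
  resG_resG h h' s := er_er _ _ _ (zm_comp h h') s
  resQ h := er (seq X).X₃ (zm X h)
  resQ_resQ h h' s := er_er _ _ _ (zm_comp h h') s
  π V := ((seq X).g.hom.app (op (zo X V))).hom
  π_res h s := er_app _ _ s
  uel V a := ((seq X).f.hom.app (op (zo X V))).hom (ofUnit (V := zo X V) (toGm V a))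
  uel_mul V a b := by
    refine Eq.trans ?_ (map_add _ _ _)
    congr 1
    apply uval_inj
    rw [uval_add, uval_ofUnit, uval_ofUnit, uval_ofUnit, map_mul, Units.val_mul]
  uel_res h a := ((er_app (seq X).f (zm X h) _).symm).trans (congrArg _ (er_ofUnit h a))
  uel_inj V := fun a b h => by
    have h1 := congrArg uval (EtColim.CohColim.injective_app (seq_shortExact X) _ h)
    rw [uval_ofUnit, uval_ofUnit] at h1
    exact (toGm_bijective V).1 (Units.ext h1)
  π_uel V a := congrArg (fun k : (seq X).X₁ ⟶ (seq X).X₃ => k.hom.app (op (zo X V)) (ofUnit (V := zo X V) (toGm V a)))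
    (seq X).zero
  exact V t ht := by
    obtain ⟨c, hc⟩ := EtColim.CohColim.exact_app (seq_shortExact X) (zo X V) t ht
    obtain ⟨a, ha⟩ := (toGm_bijective V).2 (isUnit_uval c).unit
    refine ⟨a, ?_⟩
    rw [ha, ← hc]
    congr 1
    exact uval_inj rfl
  extG W A hW hc a b h := ext_of_cover _ W A hW hc a b h
  glueG W A hW hc g hg := glue_of_cover _ W A hW hc g hg
  extQ W hc a b h := ext_of_cover _ W ⊤ (fun _ => le_top) (fun x _ => hc x) a b h
  glueQ W hc g hg := glue_of_cover _ W ⊤ (fun _ => le_top) (fun x _ => hc x) g hg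
  surj h := haveI : IsOpenImmersion (zm X h).left := inferInstanceAs (IsOpenImmersion (X.homOfLE h))
    EtaleSite.OpenRestrict.surjective_of_injective (seq X).X₂ (zm X h)
  liftable s x := by
    obtain ⟨σ, rfl⟩ := (er_topHom_bijective X (seq X).X₃).2 s
    obtain ⟨V, hxV, t, ht⟩ := exists_local_lift σ x
    refine ⟨V, hxV, t, ht.trans ?_⟩
    exact (er_er _ (zm X le_top) (topHom X) ((EtCore.topIsTerminal X).hom_ext _ _) σ).symm

/-- The connecting map on sections. -/
def cl : (seq X).X₃.obj.obj (op (EtCoh.top X)) →+ EtCoh.H X (EtCoh.Gm X) 1 :=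
  AddMonoidHom.mk' (fun σ => (Abelian.Ext.mk₀ (Function.surjInv (EtaleSite.Flasque.evTop_bijective (seq X).X₃).2 σ)).comp
    (seq_shortExact X).extClass (zero_add 1)) fun σ τ => by
    have h : Function.surjInv (EtaleSite.Flasque.evTop_bijective (seq X).X₃).2 (σ + τ) =
        Function.surjInv (EtaleSite.Flasque.evTop_bijective (seq X).X₃).2 σ +
          Function.surjInv (EtaleSite.Flasque.evTop_bijective (seq X).X₃).2 τ := by
      apply (EtaleSite.Flasque.evTop_bijective (seq X).X₃).1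
      rw [Function.surjInv_eq (EtaleSite.Flasque.evTop_bijective (seq X).X₃).2]
      unfold EtaleSite.Flasque.evTop
      have hadd : ∀ a b : EtCoh.const X ℤ ⟶ (seq X).X₃,
          ((EtCore.constAdj X).homEquiv _ _) (a + b) =
            ((EtCore.constAdj X).homEquiv _ _) a + ((EtCore.constAdj X).homEquiv _ _) b := fun a b => by
        simp only [Adjunction.homEquiv_unit, Functor.map_add]
        exact Preadditive.comp_add _ _ _ _ _ _
      rw [hadd]
      show σ + τ = _ + _
      exact (congrArg₂ (· + ·) (Function.surjInv_eq (EtaleSite.Flasque.evTop_bijective (seq X).X₃).2 σ)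
        (Function.surjInv_eq (EtaleSite.Flasque.evTop_bijective (seq X).X₃).2 τ)).symm
    rw [h, Abelian.Ext.mk₀_add, Abelian.Ext.add_comp]

theorem cl_surjective : Function.Surjective (cl X) := by
  intro c
  obtain ⟨y, hy⟩ := Abelian.Ext.covariant_sequence_exact₁ (EtCoh.const X ℤ) (seq_shortExact X) c
    (Abelian.Ext.eq_zero_of_injective _) (rfl : 0 + 1 = 1)
  obtain ⟨q, rfl⟩ := (Abelian.Ext.mk₀_bijective _ _).2 y
  refine ⟨EtaleSite.Flasque.evTop _ q, ?_⟩
  show (Abelian.Ext.mk₀ _).comp (seq_shortExact X).extClass (zero_add 1) = _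
  rw [Function.leftInverse_surjInv (EtaleSite.Flasque.evTop_bijective (seq X).X₃) q]
  exact hy

theorem cl_eq_zero_iff (σ : (seq X).X₃.obj.obj (op (EtCoh.top X))) :
    cl X σ = 0 ↔ ∃ v, ((seq X).g.hom.app (op (EtCoh.top X))).hom v = σ := by
  obtain ⟨q, rfl⟩ := (EtaleSite.Flasque.evTop_bijective (seq X).X₃).2 σ
  have e : cl X (EtaleSite.Flasque.evTop _ q) =
      (Abelian.Ext.mk₀ q).comp (seq_shortExact X).extClass (zero_add 1) := by
    show (Abelian.Ext.mk₀ _).comp (seq_shortExact X).extClass (zero_add 1) = _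
    rw [Function.leftInverse_surjInv (EtaleSite.Flasque.evTop_bijective (seq X).X₃) q]
  rw [e]
  constructor
  · intro h
    obtain ⟨ψ, hψ⟩ := Abelian.Ext.covariant_sequence_exact₃ (EtCoh.const X ℤ) (seq_shortExact X)
      (Abelian.Ext.mk₀ q) (rfl : 0 + 1 = 1) h
    obtain ⟨ψ, rfl⟩ := (Abelian.Ext.mk₀_bijective _ _).2 ψ
    rw [Abelian.Ext.mk₀_comp_mk₀] at hψ
    refine ⟨EtaleSite.Flasque.evTop _ ψ, ?_⟩
    rw [← EtaleSite.Flasque.evTop_comp, (Abelian.Ext.mk₀_bijective _ _).1 hψ]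
  · rintro ⟨v, hv⟩
    obtain ⟨ψ, rfl⟩ := (EtaleSite.Flasque.evTop_bijective (seq X).X₂).2 v
    rw [← EtaleSite.Flasque.evTop_comp] at hv
    rw [← (EtaleSite.Flasque.evTop_bijective (seq X).X₃).1 hv, ← Abelian.Ext.mk₀_comp_mk₀,
      Abelian.Ext.comp_assoc_of_second_deg_zero, ShortComplex.ShortExact.comp_extClass, Abelian.Ext.comp_zero]

/-- Sections of the quotient on the whole scheme, up to lifts. -/
theorem exists_top_lift_iff (σ : (seq X).X₃.obj.obj (op (EtCoh.top X))) :
    (∃ v, ((seq X).g.hom.app (op (EtCoh.top X))).hom v = σ) ↔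
      ∃ w, (etSetting X).π ⊤ w = er (seq X).X₃ (topHom X) σ := by
  constructor
  · rintro ⟨v, rfl⟩
    exact ⟨er (seq X).X₂ (topHom X) v, er_app _ _ v⟩
  · rintro ⟨w, hw⟩
    obtain ⟨v, rfl⟩ := (er_topHom_bijective X (seq X).X₂).2 w
    refine ⟨v, (er_topHom_bijective X (seq X).X₃).1 ?_⟩
    rw [← hw]
    exact (er_app (seq X).g (topHom X) v).symm

/-- `H¹(X, G_m) = 0` iff invertible modules are trivial. -/
theorem subsingleton_iff : Subsingleton (EtCoh.H X (EtCoh.Gm X) 1) ↔
    ∀ L : X.Modules, PicF.IsInvertible L → Nonempty (L ≅ Coh.structureModule X) := by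
  rw [← forall_lift_iff (etSetting X)]
  constructor
  · intro h s
    obtain ⟨σ, rfl⟩ := (er_topHom_bijective X (seq X).X₃).2 s
    exact (exists_top_lift_iff X σ).1 ((cl_eq_zero_iff X σ).1 (Subsingleton.elim _ _))
  · intro h
    refine subsingleton_of_forall_eq 0 fun c => ?_
    obtain ⟨σ, rfl⟩ := cl_surjective X c
    exact (cl_eq_zero_iff X σ).2 ((exists_top_lift_iff X σ).2 (h _))

/-- `Pic X ≅ H¹(X, G_m)`. -/
theorem nonempty_addEquiv [PicGrp.Law X] :
    Nonempty (Additive (PicLoc.PicSet X) ≃+ EtCoh.H X (EtCoh.Gm X) 1) := by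
  obtain ⟨Φ, hΦ, hker⟩ := exists_toPic (etSetting X)
  let Ψ : (seq X).X₃.obj.obj (op (EtCoh.top X)) →+ Additive (PicLoc.PicSet X) :=
    Φ.comp (er (seq X).X₃ (topHom X))
  have hΨ : Function.Surjective Ψ := hΦ.comp (er_topHom_bijective X (seq X).X₃).2
  have hk : Ψ.ker = (cl X).ker := by
    ext σ
    rw [AddMonoidHom.mem_ker, AddMonoidHom.mem_ker, cl_eq_zero_iff, exists_top_lift_iff]
    show er (seq X).X₃ (topHom X) σ ∈ Φ.ker ↔ _
    rw [hker]
    exact Iff.rfl
  exact ⟨(QuotientAddGroup.quotientKerEquivOfSurjective Ψ hΨ).symm.trans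
    ((QuotientAddGroup.quotientAddEquivOfEq hk).trans
      (QuotientAddGroup.quotientKerEquivOfSurjective (cl X) (cl_surjective X)))⟩

/-- A class dies on a Zariski neighbourhood of each point. -/
theorem exists_open_Hpull_eq_zero (c : EtCoh.H X (EtCoh.Gm X) 1) (x : X) :
    ∃ U : X.Opens, x ∈ U ∧ ∀ [PreservesFiniteLimits (EtCoh.pull U.ι)],
      EtCore.Hpull U.ι (EtCoh.Gm X) 1 c = 0 := by
  obtain ⟨σ, rfl⟩ := cl_surjective X c
  obtain ⟨q, rfl⟩ := (EtaleSite.Flasque.evTop_bijective (seq X).X₃).2 σ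
  obtain ⟨V, hxV, t, ht⟩ := exists_local_lift (EtaleSite.Flasque.evTop _ q) x
  refine ⟨V, hxV, fun {_} => (EtMV.toE_bijective V.ι (EtCoh.Gm X) 1).1 ?_⟩
  rw [map_zero]
  refine (EtMV.toE_Hpull V.ι 1 (EtCoh.Gm X) _).trans ?_
  have e : cl X (EtaleSite.Flasque.evTop _ q) =
      (Abelian.Ext.mk₀ q).comp (seq_shortExact X).extClass (zero_add 1) := by
    show (Abelian.Ext.mk₀ _).comp (seq_shortExact X).extClass (zero_add 1) = _
    rw [Function.leftInverse_surjInv (EtaleSite.Flasque.evTop_bijective (seq X).X₃) q]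
  obtain ⟨ψ, hψ⟩ := (EtaleSite.Flasque.freeSec_bijective (zo X V) (seq X).X₂).2 t
  have h1 : EtMV.cMap V.ι ≫ q = ψ ≫ (seq X).g :=
    (EtaleSite.Flasque.freeSec_bijective (zo X V) (seq X).X₃).1 (by
      refine (EtaleSite.Flasque.freeSec_comp (zo X V) _ q).trans ?_
      refine Eq.trans ?_ (EtaleSite.Flasque.freeSec_comp (zo X V) ψ (seq X).g).symm
      rw [hψ]
      refine Eq.trans ?_ ht.symm
      rw [show EtaleSite.Flasque.freeSec (zo X V) (EtCoh.const X ℤ) (EtMV.cMap V.ι) =
        GalCohAux.EtLocKill.one (zo X V) from GalCohAux.EtLocKill.freeSec_cMap' V.ι]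
      have h2 : EtaleSite.Flasque.evTop (seq X).X₃ q =
          (q.hom.app (op (EtCoh.top X))).hom (GalCohAux.EtLocKill.one (EtCoh.top X)) := by
        rw [← Category.id_comp q, EtaleSite.Flasque.evTop_comp, Category.id_comp]
        exact congrArg _ (GalCohAux.EtLocKill.evTop_eq (M := AddCommGrpCat.of (ULift.{u + 1} ℤ)) (ULift.up 1))
      rw [h2, ← er_app]
      exact congrArg _ (EtaleSite.ConstSections.map_cst ((EtCore.topIsTerminal X).from (zo X V))
        (M := AddCommGrpCat.of (ULift.{u + 1} ℤ)) (ULift.up 1)).symm)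
  rw [e, Abelian.Ext.mk₀_comp_mk₀_assoc]
  refine (congrArg (fun z => (Abelian.Ext.mk₀ z).comp (seq_shortExact X).extClass (zero_add 1)) h1).trans ?_
  rw [← Abelian.Ext.mk₀_comp_mk₀_assoc, ShortComplex.ShortExact.comp_extClass, Abelian.Ext.comp_zero]

end Groth.Agent.EtPicard
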